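import Groth.Agent.RelFP.BaseChange
import Groth.Agent.QCohMod.Sections
import Groth.Prelude.Def_Flatn
import Mathlib.AlgebraicGeometry.Morphisms.FinitePresentation

/-!
Relative finite presentation of quasi-coherent modules on schemes (`Flatn.IsRelFP`).
-/

set_option autoImplicit false
set_option linter.style.haveILetI false

universe u

open CategoryTheory AlgebraicGeometry Opposite TopologicalSpace Groth.QCohMod

namespace Groth.RelFP

variable {X S : Scheme.{u}} (f : X ⟶ S) (F : X.Modules)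

/-- `Flatn.RelFPOn` for arbitrary opens. -/
def SecRelFP (U : X.Opens) (V : S.Opens) (h : U ≤ f ⁻¹ᵁ V) : Prop :=
  letI := (f.appLE V U h).hom.toAlgebra
  FlatCA.RelFinitePresentation Γ(S, V) Γ(X, U) Γ(F, U)

theorem relFPOn_iff_sec (U : X.affineOpens) (V : S.affineOpens)
    (h : (U : X.Opens) ≤ f ⁻¹ᵁ (V : S.Opens)) :
    Flatn.RelFPOn f F U V h ↔ SecRelFP f F U V h :=
  Iff.rfl

theorem secRelFP_congr {U U' : X.Opens} {V V' : S.Opens} (eU : U = U') (eV : V = V')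
    (h : U ≤ f ⁻¹ᵁ V) (hs : SecRelFP f F U V h) :
    SecRelFP f F U' V' (eU ▸ eV ▸ h) := by
  subst eU eV; exact hs

variable {f F}

/-- Sections over a basic open, as a module over sections over the affine. -/
noncomputable abbrev basicModule (F : X.Modules) {U : X.Opens} (a : Γ(X, U)) :
    Module Γ(X, U) Γ(F, X.basicOpen a) :=
  Module.compHom _ (algebraMap Γ(X, U) Γ(X, X.basicOpen a))

/-- Restriction to a basic open, as a linear map. -/
noncomputable def basicRes (F : X.Modules) {U : X.Opens} (a : Γ(X, U)) :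
    letI := basicModule F a
    Γ(F, U) →ₗ[Γ(X, U)] Γ(F, X.basicOpen a) :=
  letI := basicModule F a
  { toFun := res F (X.basicOpen_le a)
    map_add' := map_add _
    map_smul' := fun r x => res_smul F (X.basicOpen_le a) r x }

theorem isLocalizedModule_basicRes [Coh.IsQCoh F] {U : X.Opens} (hU : IsAffineOpen U)
    (a : Γ(X, U)) :
    letI := basicModule F a
    IsLocalizedModule (Submonoid.powers a) (basicRes F a) := by
  letI := basicModule F a
  haveI : IsScalarTower Γ(X, U) Γ(X, X.basicOpen a) Γ(F, X.basicOpen a) :=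
    .of_algebraMap_smul fun _ _ => rfl
  haveI := hU.isLocalization_basicOpen a
  refine ⟨fun x => ?_, fun y => ?_, fun {x₁ x₂} e => ?_⟩
  · have hx : IsUnit (algebraMap Γ(X, U) Γ(X, X.basicOpen a) x) :=
      IsLocalization.map_units _ x
    rw [Module.End.isUnit_iff]
    exact hx.smul_bijective
  · obtain ⟨n, t, ht⟩ := exists_pow_smul_eq_res F hU a y
    refine ⟨(t, ⟨a ^ n, n, rfl⟩), ?_⟩
    change algebraMap Γ(X, U) Γ(X, X.basicOpen a) (a ^ n) • y = res F (X.basicOpen_le a) t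
    rw [ht, map_pow]
    rfl
  · have h0 : res F (X.basicOpen_le a) (x₁ - x₂) = 0 := by
      rw [map_sub, sub_eq_zero]; exact e
    obtain ⟨n, hn⟩ := exists_pow_smul_eq_zero F hU a _ h0
    refine ⟨⟨a ^ n, n, rfl⟩, ?_⟩
    change a ^ n • x₁ = a ^ n • x₂
    rwa [smul_sub, sub_eq_zero] at hn

/-- Restriction of the source to a basic open. -/
theorem secRelFP_basicOpen [Coh.IsQCoh F] {U : X.Opens} {V : S.Opens} (hU : IsAffineOpen U)
    (h : U ≤ f ⁻¹ᵁ V) (hs : SecRelFP f F U V h) (a : Γ(X, U)) :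
    SecRelFP f F (X.basicOpen a) V ((X.basicOpen_le a).trans h) := by
  letI := (f.appLE V U h).hom.toAlgebra
  letI := (f.appLE V (X.basicOpen a) ((X.basicOpen_le a).trans h)).hom.toAlgebra
  haveI : IsScalarTower Γ(S, V) Γ(X, U) Γ(X, X.basicOpen a) := .of_algebraMap_eq' (by
    change _ = RingHom.comp (X.presheaf.map (homOfLE (X.basicOpen_le a)).op).hom (f.appLE V U h).hom
    rw [← CommRingCat.hom_comp, Scheme.Hom.appLE_map]
    rfl)
  letI := basicModule F a
  haveI : IsScalarTower Γ(X, U) Γ(X, X.basicOpen a) Γ(F, X.basicOpen a) :=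
    .of_algebraMap_smul fun _ _ => rfl
  haveI := hU.isLocalization_basicOpen a
  haveI := isLocalizedModule_basicRes (F := F) hU a
  exact of_isLocalizedModule a (basicRes F a) hs

/-- Change of the affine open of the base along a basic open. -/
theorem secRelFP_base_basicOpen_iff {U : X.Opens} {V : S.Opens} (hV : IsAffineOpen V)
    (b : Γ(S, V)) (h : U ≤ f ⁻¹ᵁ S.basicOpen b) :
    SecRelFP f F U (S.basicOpen b) h ↔
      SecRelFP f F U V (h.trans (Scheme.Hom.preimage_mono f (S.basicOpen_le b))) := by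
  letI := (f.appLE V U (h.trans (Scheme.Hom.preimage_mono f (S.basicOpen_le b)))).hom.toAlgebra
  letI := (f.appLE (S.basicOpen b) U h).hom.toAlgebra
  haveI : IsScalarTower Γ(S, V) Γ(S, S.basicOpen b) Γ(X, U) := .of_algebraMap_eq' (by
    change _ = RingHom.comp (f.appLE (S.basicOpen b) U h).hom
      (S.presheaf.map (homOfLE (S.basicOpen_le b)).op).hom
    rw [← CommRingCat.hom_comp, Scheme.Hom.map_appLE]
    rfl)
  haveI := hV.isLocalization_basicOpen b
  haveI : Algebra.FinitePresentation Γ(S, V) Γ(S, S.basicOpen b) :=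
    IsLocalization.Away.finitePresentation b
  exact ⟨fun hs => of_base_fp hs, fun hs => of_base_ft hs⟩

/-- Locality on the source. -/
theorem secRelFP_of_span [Coh.IsQCoh F] [LocallyOfFiniteType f] {U : X.Opens} {V : S.Opens}
    (hU : IsAffineOpen U) (hV : IsAffineOpen V) (h : U ≤ f ⁻¹ᵁ V) (s : Set Γ(X, U))
    (hs : Ideal.span s = ⊤)
    (H : ∀ a ∈ s, SecRelFP f F (X.basicOpen a) V ((X.basicOpen_le a).trans h)) :
    SecRelFP f F U V h := by
  letI := (f.appLE V U h).hom.toAlgebra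
  haveI : Algebra.FiniteType Γ(S, V) Γ(X, U) := f.finiteType_appLE hV hU h
  letI : ∀ a : s, Algebra Γ(S, V) Γ(X, X.basicOpen a.1) := fun a =>
    (f.appLE V (X.basicOpen a.1) ((X.basicOpen_le a.1).trans h)).hom.toAlgebra
  haveI : ∀ a : s, IsScalarTower Γ(S, V) Γ(X, U) Γ(X, X.basicOpen a.1) := fun a =>
    .of_algebraMap_eq' (by
      change _ = RingHom.comp (X.presheaf.map (homOfLE (X.basicOpen_le a.1)).op).hom
        (f.appLE V U h).hom
      rw [← CommRingCat.hom_comp, Scheme.Hom.appLE_map]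
      rfl)
  letI : ∀ a : s, Module Γ(X, U) Γ(F, X.basicOpen a.1) := fun a => basicModule F a.1
  haveI : ∀ a : s, IsScalarTower Γ(X, U) Γ(X, X.basicOpen a.1) Γ(F, X.basicOpen a.1) := fun a =>
    .of_algebraMap_smul fun _ _ => rfl
  haveI : ∀ a : s, IsLocalization.Away a.1 Γ(X, X.basicOpen a.1) := fun a =>
    hU.isLocalization_basicOpen a.1
  haveI : ∀ a : s, IsLocalizedModule (Submonoid.powers a.1) (basicRes F a.1) := fun a =>
    isLocalizedModule_basicRes hU a.1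
  exact of_span_eq_top s hs (fun a => Γ(X, X.basicOpen a.1))
    (fun a => Γ(F, X.basicOpen a.1)) (fun a => basicRes F a.1) fun a => H a.1 a.2

/-- The defining condition holds on every pair of affine opens. -/
theorem secRelFP_of_isRelFP [Coh.IsQCoh F] [LocallyOfFiniteType f] (hF : Flatn.IsRelFP f F)
    {U : X.Opens} {V : S.Opens} (hU : IsAffineOpen U) (hV : IsAffineOpen V) (h : U ≤ f ⁻¹ᵁ V) :
    SecRelFP f F U V h := by
  let s : Set Γ(X, U) := {a | SecRelFP f F (X.basicOpen a) V ((X.basicOpen_le a).trans h)}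
  refine secRelFP_of_span hU hV h s ?_ fun a ha => ha
  rw [← hU.self_le_iSup_basicOpen_iff]
  intro x hx
  obtain ⟨𝒱, h𝒱, H⟩ := hF
  obtain ⟨V₀, hV₀, hxV₀⟩ : ∃ V₀ ∈ 𝒱, f x ∈ (V₀ : S.Opens) := by
    have : f x ∈ (⊤ : S.Opens) := trivial
    rw [← h𝒱] at this
    simpa [Opens.mem_iSup] using this
  obtain ⟨𝒰, h𝒰, H'⟩ := H V₀ hV₀
  obtain ⟨U₀, hU₀, hxU₀⟩ : ∃ U₀ ∈ 𝒰, x ∈ (U₀ : X.Opens) := by
    have : x ∈ f ⁻¹ᵁ (V₀ : S.Opens) := hxV₀
    rw [← h𝒰] at this
    simpa [Opens.mem_iSup] using this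
  have h₀ : (U₀ : X.Opens) ≤ f ⁻¹ᵁ (V₀ : S.Opens) :=
    h𝒰 ▸ le_iSup₂_of_le U₀ hU₀ le_rfl
  have hs₀ : SecRelFP f F U₀ V₀ h₀ := H' U₀ hU₀ h₀
  obtain ⟨b, b₀, hbb, hxb⟩ := exists_basicOpen_le_affine_inter hV V₀.2 (f x) ⟨h hx, hxV₀⟩
  -- the part of `U₀` over the basic open of the base
  let c : Γ(X, (U₀ : X.Opens)) := f.appLE V₀ U₀ h₀ b₀
  have hc : X.basicOpen c = (U₀ : X.Opens) ⊓ f ⁻¹ᵁ S.basicOpen b₀ :=
    Scheme.basicOpen_appLE f _ _ h₀ b₀
  have hxc : x ∈ X.basicOpen c := by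
    rw [hc]; exact ⟨hxU₀, hbb ▸ hxb⟩
  have hcb : X.basicOpen c ≤ f ⁻¹ᵁ S.basicOpen b₀ := hc.le.trans inf_le_right
  have h1 := secRelFP_basicOpen U₀.2 h₀ hs₀ c
  have h2 : SecRelFP f F (X.basicOpen c) (S.basicOpen b₀) hcb :=
    (secRelFP_base_basicOpen_iff V₀.2 b₀ hcb).mpr h1
  obtain ⟨a, a', haa, hxa⟩ :=
    exists_basicOpen_le_affine_inter hU (U₀.2.basicOpen c) x ⟨hx, hxc⟩
  have h3 := secRelFP_congr f F haa.symm hbb.symm _ (secRelFP_basicOpen (U₀.2.basicOpen c) hcb h2 a')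
  have h4 := (secRelFP_base_basicOpen_iff hV b _).mp h3
  exact Opens.mem_iSup.mpr ⟨⟨a, h4⟩, hxa⟩

/-- A criterion: enough affines of the base, enough affines of the source. -/
theorem isRelFP_of_forall (H : ∀ (U : X.affineOpens) (V : S.affineOpens)
      (h : (U : X.Opens) ≤ f ⁻¹ᵁ (V : S.Opens)), SecRelFP f F U V h) : Flatn.IsRelFP f F := by
  refine ⟨Set.univ, ?_, fun V _ => ⟨{U | (U : X.Opens) ≤ f ⁻¹ᵁ (V : S.Opens)}, ?_,
    fun U _ h => H U V h⟩⟩
  · rw [eq_top_iff]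
    intro x _
    obtain ⟨_, ⟨V, hV, rfl⟩, hxV, -⟩ :=
      S.isBasis_affineOpens.exists_subset_of_mem_open (Set.mem_univ x) isOpen_univ
    exact Opens.mem_iSup.mpr ⟨⟨V, hV⟩, Opens.mem_iSup.mpr ⟨trivial, hxV⟩⟩
  · refine le_antisymm (iSup₂_le fun U hU => hU) fun x hx => ?_
    obtain ⟨_, ⟨U, hU, rfl⟩, hxU, hUV⟩ :=
      X.isBasis_affineOpens.exists_subset_of_mem_open hx (f ⁻¹ᵁ (V : S.Opens)).isOpen
    exact Opens.mem_iSup.mpr ⟨⟨U, hU⟩, Opens.mem_iSup.mpr ⟨hUV, hxU⟩⟩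

/-- Relative finite presentation can be checked on all pairs of affine opens. -/
theorem isRelFP_iff [Coh.IsQCoh F] [LocallyOfFiniteType f] :
    Flatn.IsRelFP f F ↔ ∀ (U : X.affineOpens) (V : S.affineOpens)
      (h : (U : X.Opens) ≤ f ⁻¹ᵁ (V : S.Opens)), Flatn.RelFPOn f F U V h :=
  ⟨fun hF U V h => secRelFP_of_isRelFP hF U.2 V.2 h, isRelFP_of_forall⟩

end Groth.RelFP
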