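import Groth.Agent.RelFP.Ring

/-!
Base change and locality for relative finite presentation.
-/

set_option autoImplicit false
set_option linter.style.haveILetI false

universe u

open TensorProduct

namespace Groth.RelFP

section pushout

variable {R S A B : Type u} [CommRing R] [CommRing S] [CommRing A] [CommRing B]
  [Algebra R S] [Algebra R A] [Algebra R B] [Algebra A B] [Algebra S B]
  [IsScalarTower R A B] [IsScalarTower R S B] [Algebra.IsPushout R S A B]
  {M N : Type u} [AddCommGroup M] [Module R M] [Module A M] [IsScalarTower R A M]
  [AddCommGroup N] [Module R N] [Module A N] [Module B N] [Module S N]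
  [IsScalarTower A B N] [IsScalarTower S B N] [IsScalarTower R S N] [IsScalarTower R A N]

/-- Base change along the two sides of a pushout square. -/
theorem isBaseChange_iff_of_isPushout (f : M →ₗ[A] N) :
    IsBaseChange B f ↔ IsBaseChange S (f.restrictScalars R) := by
  let e := Algebra.IsPushout.cancelBaseChange R S A B M
  let LB : B ⊗[A] M →ₗ[B] N :=
    (TensorProduct.isBaseChange A M B).lift f
  let LS : S ⊗[R] M →ₗ[S] N :=
    (TensorProduct.isBaseChange R M S).lift (f.restrictScalars R)
  have hLS : LS = (LB.restrictScalars S).comp e.symm.toLinearMap := by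
    refine (TensorProduct.isBaseChange R M S).algHom_ext _ _ fun m => ?_
    simp only [LS, LB, LinearMap.comp_apply, LinearMap.restrictScalars_apply, LinearEquiv.coe_coe]
    rw [IsBaseChange.lift_eq]
    change f m = _
    rw [TensorProduct.mk_apply, Algebra.IsPushout.cancelBaseChange_symm_tmul, map_one (algebraMap S B)]
    exact ((TensorProduct.isBaseChange A M B).lift_eq f m).symm
  constructor
  · intro h
    have hb : Function.Bijective LB := by
      have : LB = h.equiv.toLinearMap :=
        (TensorProduct.isBaseChange A M B).algHom_ext _ _ fun m => by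
          refine ((TensorProduct.isBaseChange A M B).lift_eq f m).trans ?_
          exact ((h.equiv_tmul 1 m).trans (one_smul _ _)).symm
      rw [this]
      exact h.equiv.bijective
    have hs : Function.Bijective LS := by rw [hLS]; exact hb.comp e.symm.bijective
    refine IsBaseChange.of_equiv (LinearEquiv.ofBijective LS hs) fun m => ?_
    exact (TensorProduct.isBaseChange R M S).lift_eq _ m
  · intro h
    have hs : Function.Bijective LS := by
      have : LS = h.equiv.toLinearMap :=
        (TensorProduct.isBaseChange R M S).algHom_ext _ _ fun m => by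
          refine ((TensorProduct.isBaseChange R M S).lift_eq _ m).trans ?_
          exact ((h.equiv_tmul 1 m).trans (one_smul _ _)).symm
      rw [this]
      exact h.equiv.bijective
    have hb : Function.Bijective LB := by
      have : ⇑LB = LS ∘ e := by
        rw [hLS]; ext z; simp
      rw [this]
      exact hs.comp e.bijective
    refine IsBaseChange.of_equiv (LinearEquiv.ofBijective LB hb) fun m => ?_
    exact (TensorProduct.isBaseChange A M B).lift_eq _ m

end pushout

section baseChange

variable {R R' A A' : Type u} [CommRing R] [CommRing R'] [CommRing A] [CommRing A']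
  [Algebra R A] [Algebra R R'] [Algebra R A'] [Algebra A A'] [Algebra R' A']
  [IsScalarTower R A A'] [IsScalarTower R R' A'] [Algebra.IsPushout R A R' A']
  {M M' : Type u} [AddCommGroup M] [Module A M] [AddCommGroup M'] [Module A M'] [Module A' M']
  [IsScalarTower A A' M']

attribute [local instance] MvPolynomial.algebraMvPolynomial

/-- Relative finite presentation is stable under base change of the base. -/
theorem of_baseChange (f : M →ₗ[A] M') (hf : IsBaseChange A' f)
    (h : FlatCA.RelFinitePresentation R A M) : FlatCA.RelFinitePresentation R' A' M' := by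
  obtain ⟨n, α, hα, hM⟩ := h
  let P := MvPolynomial (Fin n) R
  let P' := MvPolynomial (Fin n) R'
  let β : P' →ₐ[R'] A' := MvPolynomial.aeval fun i => algebraMap A A' (α (MvPolynomial.X i))
  haveI hpo : Algebra.IsPushout R R' A A' := Algebra.IsPushout.symm inferInstance
  have hβ : Function.Surjective β := by
    intro z
    induction z using hpo.out.inductionOn with
    | zero => exact ⟨0, map_zero _⟩
    | smul r x hx =>
      obtain ⟨x, rfl⟩ := hx
      exact ⟨r • x, map_smul _ _ _⟩
    | tmul a =>
      obtain ⟨p, rfl⟩ := hα a
      refine ⟨MvPolynomial.map (algebraMap R R') p, ?_⟩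
      rw [MvPolynomial.aeval_map_algebraMap]
      exact congrFun (congrArg _ (MvPolynomial.algHom_ext
        (f := MvPolynomial.aeval (R := R) fun i => algebraMap A A' (α (MvPolynomial.X i)))
        (g := (IsScalarTower.toAlgHom R A A').comp α) fun i => by simp)) p
    | add x y hx hy =>
      obtain ⟨x, rfl⟩ := hx
      obtain ⟨y, rfl⟩ := hy
      exact ⟨x + y, map_add _ _ _⟩
  refine ⟨n, β, hβ, ?_⟩
  letI : Module R M := Module.compHom M (algebraMap R A)
  haveI : IsScalarTower R A M := .of_algebraMap_smul fun _ _ => rfl
  letI : Module R M' := Module.compHom M' (algebraMap R A)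
  haveI : IsScalarTower R A M' := .of_algebraMap_smul fun _ _ => rfl
  letI : Module R' M' := Module.compHom M' (algebraMap R' A')
  haveI : IsScalarTower R' A' M' := .of_algebraMap_smul fun _ _ => rfl
  haveI : IsScalarTower R R' M' := .of_algebraMap_smul fun r m => by
    change algebraMap R' A' (algebraMap R R' r) • m = algebraMap R A r • m
    rw [← IsScalarTower.algebraMap_apply, IsScalarTower.algebraMap_apply R A A',
      IsScalarTower.algebraMap_smul]
  have h1 : IsBaseChange R' (f.restrictScalars R) := (isBaseChange_iff_of_isPushout f).mp hf
  letI : Module P M := Module.compHom M α.toRingHom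
  letI : Module P M' := Module.compHom M' α.toRingHom
  letI : Module P' M' := Module.compHom M' β.toRingHom
  haveI : IsScalarTower R P M := .of_algebraMap_smul fun r m => by
    change α (algebraMap R P r) • m = algebraMap R A r • m
    rw [α.commutes]
  haveI : IsScalarTower R P M' := .of_algebraMap_smul fun r m => by
    change α (algebraMap R P r) • m = algebraMap R A r • m
    rw [α.commutes]
  haveI : IsScalarTower R' P' M' := .of_algebraMap_smul fun r m => by
    change β (algebraMap R' P' r) • m = algebraMap R' A' r • m
    rw [β.commutes]
  haveI : IsScalarTower P P' M' := .of_algebraMap_smul fun p m => by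
    change β (MvPolynomial.map (algebraMap R R') p) • m = α p • m
    have : β (MvPolynomial.map (algebraMap R R') p) = algebraMap A A' (α p) := by
      rw [MvPolynomial.aeval_map_algebraMap]
      exact congrFun (congrArg _ (MvPolynomial.algHom_ext
        (f := MvPolynomial.aeval (R := R) fun i => algebraMap A A' (α (MvPolynomial.X i)))
        (g := (IsScalarTower.toAlgHom R A A').comp α) fun i => by simp)) p
    rw [this, IsScalarTower.algebraMap_smul]
  let fP : M →ₗ[P] M' :=
    { toFun := f, map_add' := map_add f, map_smul' := fun p m => f.map_smul (α p) m }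
  have h2 : IsBaseChange P' fP :=
    (isBaseChange_iff_of_isPushout (R := R) (S := R') (A := P) (B := P') fP).mpr h1
  haveI : Module.FinitePresentation P M := hM
  exact FinitePresentation.of_isBaseChange fP h2

end baseChange

section sourceChange

variable {R A A' : Type u} [CommRing R] [CommRing A] [CommRing A'] [Algebra R A] [Algebra A A']
  [Algebra R A'] [IsScalarTower R A A']
  {M M' : Type u} [AddCommGroup M] [Module A M] [AddCommGroup M'] [Module A M'] [Module A' M']
  [IsScalarTower A A' M']

/-- The kernel of base change along a surjection. -/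
theorem ker_eq_ker_smul_top {T C : Type u} [CommRing T] [CommRing C] [Algebra T C]
    (hs : Function.Surjective (algebraMap T C)) {N N' : Type u} [AddCommGroup N] [Module T N]
    [AddCommGroup N'] [Module T N'] [Module C N'] [IsScalarTower T C N']
    (g : N →ₗ[T] N') (hg : IsBaseChange C g) :
    LinearMap.ker g = RingHom.ker (algebraMap T C) • ⊤ := by
  apply le_antisymm
  · intro n hn
    have h1 : (1 : C) ⊗ₜ[T] n = 0 := by
      apply hg.equiv.injective
      rw [hg.equiv_tmul, one_smul, map_zero]
      exact hn
    let J := RingHom.ker (algebraMap T C)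
    have hex : Function.Exact J.subtype (Algebra.linearMap T C) := by
      rw [LinearMap.exact_iff, Submodule.range_subtype]
      ext x
      simp [J, RingHom.mem_ker]
    have := (rTensor_exact N hex hs ((1 : T) ⊗ₜ n)).mp (by simpa using h1)
    obtain ⟨z, hz⟩ := this
    have hmem : ∀ z, TensorProduct.lid T N (J.subtype.rTensor N z) ∈ J • (⊤ : Submodule T N) := by
      intro z
      induction z with
      | zero => simp
      | tmul j y => simpa using Submodule.smul_mem_smul j.2 (Submodule.mem_top (x := y))
      | add x y hx hy => rw [map_add, map_add]; exact add_mem hx hy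
    have := hmem z
    rw [hz] at this
    simpa using this
  · rw [Submodule.smul_le]
    intro j hj n _
    rw [LinearMap.mem_ker, map_smul, ← IsScalarTower.algebraMap_smul C j, RingHom.mem_ker.mp hj,
      zero_smul]

attribute [local instance] MvPolynomial.algebraMvPolynomial

/-- Relative finite presentation is preserved along finitely presented maps of the algebra. -/
theorem of_source_fp [Algebra.FinitePresentation A A'] (f : M →ₗ[A] M') (hf : IsBaseChange A' f)
    (h : FlatCA.RelFinitePresentation R A M) : FlatCA.RelFinitePresentation R A' M' := by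
  obtain ⟨m, π, hπ, hk⟩ := Algebra.FinitePresentation.out (R := A) (A := A')
  obtain ⟨n, α, hα, hM⟩ := h
  let P := MvPolynomial (Fin n) R
  let T := MvPolynomial (Fin m) A
  -- base change to the polynomial ring
  letI : Algebra P A := α.toRingHom.toAlgebra
  haveI : IsScalarTower R P A := .of_algebraMap_eq' α.comp_algebraMap.symm
  letI : Module P M := Module.compHom M α.toRingHom
  haveI : IsScalarTower P A M := .of_algebraMap_smul fun _ _ => rfl
  haveI : Module.FinitePresentation P M := hM
  let N := T ⊗[A] M
  let Q := MvPolynomial (Fin m) P
  haveI : IsScalarTower P T N := inferInstance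
  haveI : IsScalarTower Q T N := inferInstance
  haveI : IsScalarTower P Q N := ⟨fun p q z => by
    rw [← smul_one_smul T (p • q) z, smul_assoc p q (1 : T), smul_assoc p, smul_one_smul]⟩
  let g : M →ₗ[A] N := TensorProduct.mk A T M 1
  have hg : IsBaseChange Q (g.restrictScalars P) :=
    (isBaseChange_iff_of_isPushout (R := P) (S := Q) (A := A) (B := T) g).mp
      (TensorProduct.isBaseChange A M T)
  haveI hNfp : Module.FinitePresentation Q N := FinitePresentation.of_isBaseChange _ hg
  have hN : FlatCA.RelFinitePresentation R T N := by
    haveI : Algebra.FinitePresentation R Q := .trans R P Q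
    refine (iff_fpVia (P := Q) (MvPolynomial.mapAlgHom (IsScalarTower.toAlgHom R P A)) ?_).mpr ?_
    · exact MvPolynomial.map_surjective _ hα
    · have : Module.compHom N (MvPolynomial.mapAlgHom (σ := Fin m)
          (IsScalarTower.toAlgHom R P A)).toRingHom = (inferInstance : Module Q N) :=
        Module.ext' _ _ fun q z => IsScalarTower.algebraMap_smul T q z
      rw [FPVia, this]
      exact hNfp
  -- quotient
  letI : Algebra T A' := π.toRingHom.toAlgebra
  haveI : IsScalarTower A T A' := .of_algebraMap_eq' π.comp_algebraMap.symm
  letI : Module T M' := Module.compHom M' π.toRingHom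
  haveI : IsScalarTower T A' M' := .of_algebraMap_smul fun _ _ => rfl
  haveI : IsScalarTower A T M' := .of_algebraMap_smul fun a x => by
    change π (algebraMap A T a) • x = a • x
    rw [π.commutes, IsScalarTower.algebraMap_smul]
  haveI : IsScalarTower R T A' := .of_algebraMap_eq' (by
    rw [RingHom.algebraMap_toAlgebra, IsScalarTower.algebraMap_eq R A T, ← RingHom.comp_assoc,
      IsScalarTower.algebraMap_eq R A A']
    rw [show π.toRingHom.comp (algebraMap A T) = algebraMap A A' from π.comp_algebraMap])
  let l : N →ₗ[T] M' := (TensorProduct.isBaseChange A M T).lift f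
  have hl0 : l.restrictScalars A ∘ₗ g = f := (TensorProduct.isBaseChange A M T).lift_comp f
  have hl : IsBaseChange A' l := IsBaseChange.of_comp (TensorProduct.isBaseChange A M T)
    (h := l) (by
      change IsBaseChange A' (l.restrictScalars A ∘ₗ g)
      rw [hl0]; exact hf)
  have hlsurj : Function.Surjective l := by
    intro x
    induction x using hl.inductionOn with
    | zero => exact ⟨0, map_zero _⟩
    | tmul z => exact ⟨z, rfl⟩
    | smul s x hx =>
      obtain ⟨t, rfl⟩ := hπ s
      obtain ⟨z, rfl⟩ := hx
      exact ⟨t • z, (map_smul l t z).trans (IsScalarTower.algebraMap_smul A' t (l z)).symm⟩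
    | add x y hx hy =>
      obtain ⟨x, rfl⟩ := hx
      obtain ⟨y, rfl⟩ := hy
      exact ⟨x + y, map_add _ _ _⟩
  have hNfin : Module.Finite T N := by
    haveI : Module.Finite P M := inferInstance
    haveI : Module.Finite A M := .of_restrictScalars_finite P A M
    infer_instance
  have hker : (LinearMap.ker l).FG := by
    rw [ker_eq_ker_smul_top hπ l hl]
    exact Submodule.FG.smul hk Module.Finite.fg_top
  have h3 := of_surjective l hlsurj hker hN
  obtain ⟨k, γ, hγ, h4⟩ := h3
  refine ⟨k, (IsScalarTower.toAlgHom R T A').comp γ, hπ.comp hγ, ?_⟩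
  have : Module.compHom M' ((IsScalarTower.toAlgHom R T A').comp γ).toRingHom =
      Module.compHom M' γ.toRingHom := Module.ext' _ _ fun _ _ => rfl
  rw [this]
  exact h4

/-- Localizations. -/
theorem of_isLocalizedModule (a : A) [IsLocalization.Away a A'] (f : M →ₗ[A] M')
    [IsLocalizedModule (Submonoid.powers a) f] (h : FlatCA.RelFinitePresentation R A M) :
    FlatCA.RelFinitePresentation R A' M' := by
  haveI := IsLocalization.Away.finitePresentation a (S := A')
  exact of_source_fp f (IsLocalizedModule.isBaseChange (Submonoid.powers a) A' f) h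

end sourceChange

section locality

variable {R A : Type u} [CommRing R] [CommRing A] [Algebra R A] [Algebra.FiniteType R A]
  {M : Type u} [AddCommGroup M] [Module A M]

/-- Relative finite presentation is local on the algebra. -/
theorem of_span_eq_top (s : Set A) (hs : Ideal.span s = ⊤)
    (B : s → Type u) [∀ a, CommRing (B a)] [∀ a, Algebra A (B a)] [∀ a, Algebra R (B a)]
    [∀ a, IsScalarTower R A (B a)] [∀ a, IsLocalization.Away a.1 (B a)]
    (N : s → Type u) [∀ a, AddCommGroup (N a)] [∀ a, Module A (N a)] [∀ a, Module (B a) (N a)]
    [∀ a, IsScalarTower A (B a) (N a)] (f : ∀ a, M →ₗ[A] N a)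
    [∀ a, IsLocalizedModule (Submonoid.powers a.1) (f a)]
    (h : ∀ a, FlatCA.RelFinitePresentation R (B a) (N a)) :
    FlatCA.RelFinitePresentation R A M := by
  obtain ⟨n, α, hα⟩ := Algebra.FiniteType.iff_quotient_mvPolynomial''.mp ‹Algebra.FiniteType R A›
  refine ⟨n, α, hα, ?_⟩
  let P := MvPolynomial (Fin n) R
  letI : Algebra P A := α.toRingHom.toAlgebra
  letI : Module P M := Module.compHom M α.toRingHom
  haveI : IsScalarTower P A M := .of_algebraMap_smul fun _ _ => rfl
  let t : Set P := {p | α p ∈ s ∨ α p = 0}
  have ht : Ideal.span t = ⊤ := by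
    rw [Ideal.eq_top_iff_one]
    have h1 : (1 : A) ∈ Ideal.map (algebraMap P A) (Ideal.span t) := by
      rw [Ideal.map_span]
      refine (hs ▸ Submodule.mem_top : (1 : A) ∈ Ideal.span s) |> (Ideal.span_mono ?_ ·)
      intro a ha
      obtain ⟨p, rfl⟩ := hα a
      exact ⟨p, Or.inl ha, rfl⟩
    obtain ⟨p, hp, hp1⟩ := (Ideal.mem_map_iff_of_surjective (algebraMap P A) hα).mp h1
    have : (1 - p) ∈ Ideal.span t :=
      Ideal.subset_span (Or.inr (show α (1 - p) = 0 by
        rw [map_sub, map_one, show α p = 1 from hp1, sub_self]))
    simpa using add_mem hp this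
  refine Module.FinitePresentation.of_localizationSpan t ht fun p => ?_
  rcases eq_or_ne (α p.1) 0 with h0 | h0
  · haveI : Subsingleton (LocalizedModule.Away p.1 M) := by
      rw [LocalizedModule.subsingleton_iff]
      intro m
      refine ⟨p.1, Submonoid.mem_powers _, ?_⟩
      change α p.1 • m = 0
      rw [h0, zero_smul]
    infer_instance
  · have hp : α p.1 ∈ s := p.2.resolve_right h0
    let a : s := ⟨_, hp⟩
    let L := Localization.Away p.1
    haveI : IsLocalization.Away (α p.1) (B a) := inferInstanceAs (IsLocalization.Away a.1 (B a))
    letI : Algebra P (B a) := ((algebraMap A (B a)).comp α.toRingHom).toAlgebra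
    haveI : IsScalarTower P A (B a) := .of_algebraMap_eq' rfl
    letI : Module P (N a) := Module.compHom (N a) α.toRingHom
    haveI : IsScalarTower P A (N a) := .of_algebraMap_smul fun _ _ => rfl
    let e : L →ₐ[P] B a := IsLocalization.liftAlgHom (M := Submonoid.powers p.1)
      (f := Algebra.ofId P (B a)) (fun y => by
        obtain ⟨k, hk⟩ := y.2
        rw [Algebra.ofId_apply, ← hk]
        rw [map_pow]
        exact (IsLocalization.Away.algebraMap_isUnit (α p.1)).pow k)
    have he : Function.Surjective e := by
      intro z
      obtain ⟨⟨x, y, k, rfl⟩, hz⟩ := IsLocalization.surj (Submonoid.powers (α p.1)) z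
      obtain ⟨q, rfl⟩ := hα x
      refine ⟨IsLocalization.mk' L q (⟨p.1 ^ k, Submonoid.pow_mem _ (Submonoid.mem_powers _) k⟩ : Submonoid.powers p.1), ?_⟩
      have hu : IsUnit (algebraMap A (B a) (α p.1 ^ k)) := by
        rw [map_pow]; exact (IsLocalization.Away.algebraMap_isUnit (α p.1)).pow k
      refine hu.mul_right_cancel (Eq.trans ?_ hz.symm)
      have h2 : e (IsLocalization.mk' L q
          (⟨p.1 ^ k, Submonoid.pow_mem _ (Submonoid.mem_powers _) k⟩ : Submonoid.powers p.1)) *
          algebraMap P (B a) (p.1 ^ k) = algebraMap P (B a) q := by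
        rw [← e.commutes (p.1 ^ k), ← map_mul, IsLocalization.mk'_spec, e.commutes]
      change _ * algebraMap A (B a) (α p.1 ^ k) = algebraMap A (B a) (α q)
      rw [← map_pow α]
      exact h2
    haveI : IsScalarTower R P L := inferInstance
    haveI : IsScalarTower R P (B a) := .of_algebraMap_eq' (by
      rw [RingHom.algebraMap_toAlgebra, RingHom.comp_assoc,
        show α.toRingHom.comp (algebraMap R P) = algebraMap R A from α.comp_algebraMap,
        ← IsScalarTower.algebraMap_eq])
    haveI : Algebra.FinitePresentation P L := IsLocalization.Away.finitePresentation p.1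
    haveI : Algebra.FinitePresentation R L := .trans R P L
    have hfp : FPVia (e.restrictScalars R).toRingHom (N a) :=
      (iff_fpVia (P := L) (e.restrictScalars R) he).mp (h a)
    haveI hloc : IsLocalizedModule (Submonoid.powers p.1) ((f a).restrictScalars P) := by
      have : (Submonoid.powers (α p.1)) =
          Algebra.algebraMapSubmonoid A (Submonoid.powers p.1) := by
        rw [Algebra.algebraMapSubmonoid, Submonoid.map_powers]; rfl
      have : IsLocalizedModule (Algebra.algebraMapSubmonoid A (Submonoid.powers p.1)) (f a) :=
        this ▸ (inferInstance : IsLocalizedModule (Submonoid.powers a.1) (f a))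
      exact IsLocalizedModule.restrictScalars _ _
    let eN := IsLocalizedModule.iso (Submonoid.powers p.1) ((f a).restrictScalars P)
    letI : Module L (N a) := Module.compHom (N a) e.toRingHom
    haveI : IsScalarTower P L (N a) := .of_algebraMap_smul fun q x => by
      change e (algebraMap P L q) • x = α q • x
      rw [e.commutes]
      exact IsScalarTower.algebraMap_smul (B a) (α q) x
    haveI : Module.FinitePresentation L (N a) := hfp
    exact Module.FinitePresentation.of_equiv
      (LinearEquiv.extendScalarsOfIsLocalization (Submonoid.powers p.1) L eN).symm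

end locality

end Groth.RelFP
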