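import Groth.Agent.RelFP.Scheme
import Groth.Agent.QCohMod.PullbackSections
import Groth.Agent.QCohMod.Category
import Groth.Agent.QCohMod.FiniteType
import Mathlib.AlgebraicGeometry.Morphisms.Finite
import Mathlib.AlgebraicGeometry.Morphisms.Flat

/-!
Permanence properties of relative finite presentation on schemes.
-/

set_option autoImplicit false
set_option linter.style.haveILetI false

universe u

open CategoryTheory Limits AlgebraicGeometry Opposite TopologicalSpace Groth.QCohMod TensorProduct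

namespace Groth.RelFP

variable {X Y S : Scheme.{u}}

/-- The covering affines used for composites. -/
theorem iSup_affine_over (f : X ⟶ Y) (g : Y ⟶ S) (V : S.Opens) :
    (⨆ U ∈ {U : X.affineOpens | ∃ W : Y.affineOpens, (W : Y.Opens) ≤ g ⁻¹ᵁ V ∧
      (U : X.Opens) ≤ f ⁻¹ᵁ (W : Y.Opens)}, (U : X.Opens)) = (f ≫ g) ⁻¹ᵁ V := by
  refine le_antisymm (iSup₂_le fun U ⟨W, hW, hU⟩ => hU.trans (f.preimage_mono hW)) fun x hx => ?_
  obtain ⟨_, ⟨W, hW, rfl⟩, hxW, hWV⟩ :=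
    Y.isBasis_affineOpens.exists_subset_of_mem_open (a := f x) hx (g ⁻¹ᵁ V).isOpen
  obtain ⟨_, ⟨U, hU, rfl⟩, hxU, hUW⟩ :=
    X.isBasis_affineOpens.exists_subset_of_mem_open (a := x) hxW (f ⁻¹ᵁ W).isOpen
  exact Opens.mem_iSup.mpr ⟨⟨U, hU⟩, Opens.mem_iSup.mpr ⟨⟨⟨W, hW⟩, hWV, hUW⟩, hxU⟩⟩

theorem iSup_affineOpens (S : Scheme.{u}) :
    (⨆ V ∈ (Set.univ : Set S.affineOpens), (V : S.Opens)) = ⊤ := by
  rw [eq_top_iff]
  intro x _
  obtain ⟨_, ⟨V, hV, rfl⟩, hxV, -⟩ :=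
    S.isBasis_affineOpens.exists_subset_of_mem_open (Set.mem_univ x) isOpen_univ
  exact Opens.mem_iSup.mpr ⟨⟨V, hV⟩, Opens.mem_iSup.mpr ⟨trivial, hxV⟩⟩

/-- Composition with a morphism locally of finite presentation. -/
theorem isRelFP_comp (f : X ⟶ Y) (g : Y ⟶ S) [LocallyOfFiniteType f]
    [LocallyOfFinitePresentation g] (F : X.Modules) [Coh.IsQCoh F] (hF : Flatn.IsRelFP f F) :
    Flatn.IsRelFP (f ≫ g) F := by
  refine ⟨Set.univ, iSup_affineOpens S, fun V _ => ⟨_, iSup_affine_over f g V, ?_⟩⟩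
  rintro U ⟨W, hW, hU⟩ h
  letI := (g.appLE V W hW).hom.toAlgebra
  letI := (f.appLE W U hU).hom.toAlgebra
  letI := ((f ≫ g).appLE V U h).hom.toAlgebra
  haveI : IsScalarTower Γ(S, (V : S.Opens)) Γ(Y, (W : Y.Opens)) Γ(X, (U : X.Opens)) :=
    .of_algebraMap_eq' (by
      change _ = RingHom.comp (f.appLE W U hU).hom (g.appLE V W hW).hom
      rw [← CommRingCat.hom_comp, Scheme.Hom.appLE_comp_appLE]
      rfl)
  haveI : Algebra.FinitePresentation Γ(S, (V : S.Opens)) Γ(Y, (W : Y.Opens)) :=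
    g.finitePresentation_appLE V.2 W.2 hW
  exact of_base_fp (A := Γ(Y, (W : Y.Opens))) (secRelFP_of_isRelFP hF U.2 W.2 hU)

/-- Finite morphisms do not change relative finite presentation. -/
theorem isRelFP_push_iff (π : X ⟶ Y) (g : Y ⟶ S) [IsFinite π] [LocallyOfFiniteType g]
    (F : X.Modules) [Coh.IsQCoh F] :
    Flatn.IsRelFP (π ≫ g) F ↔ Flatn.IsRelFP g ((Coh.push π).obj F) := by
  have key : ∀ (U : Y.affineOpens) (V : S.affineOpens) (h : (U : Y.Opens) ≤ g ⁻¹ᵁ (V : S.Opens))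
      (h' : π ⁻¹ᵁ (U : Y.Opens) ≤ (π ≫ g) ⁻¹ᵁ (V : S.Opens)),
      SecRelFP g ((Coh.push π).obj F) U V h ↔ SecRelFP (π ≫ g) F (π ⁻¹ᵁ (U : Y.Opens)) V h' := by
    intro U V h h'
    letI := (g.appLE V U h).hom.toAlgebra
    letI : Algebra Γ(Y, (U : Y.Opens)) Γ(X, π ⁻¹ᵁ (U : Y.Opens)) := (π.app U).hom.toAlgebra
    letI := ((π ≫ g).appLE V (π ⁻¹ᵁ (U : Y.Opens)) h').hom.toAlgebra
    haveI : IsScalarTower Γ(S, (V : S.Opens)) Γ(Y, (U : Y.Opens)) Γ(X, π ⁻¹ᵁ (U : Y.Opens)) :=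
      .of_algebraMap_eq' (by
        change _ = RingHom.comp (π.app U).hom (g.appLE V U h).hom
        rw [← CommRingCat.hom_comp, Scheme.Hom.app_eq_appLE, Scheme.Hom.appLE_comp_appLE]
        rfl)
    letI : Module Γ(Y, (U : Y.Opens)) Γ(F, π ⁻¹ᵁ (U : Y.Opens)) := Module.compHom _ (π.app U).hom
    haveI : IsScalarTower Γ(Y, (U : Y.Opens)) Γ(X, π ⁻¹ᵁ (U : Y.Opens))
        Γ(F, π ⁻¹ᵁ (U : Y.Opens)) := .of_algebraMap_smul fun _ _ => rfl
    haveI : Algebra.FiniteType Γ(S, (V : S.Opens)) Γ(Y, (U : Y.Opens)) :=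
      g.finiteType_appLE V.2 U.2 h
    haveI : Module.Finite Γ(Y, (U : Y.Opens)) Γ(X, π ⁻¹ᵁ (U : Y.Opens)) := π.finite_app U U.2
    have := iff_of_finite (R := Γ(S, (V : S.Opens))) (A := Γ(Y, (U : Y.Opens)))
      (B := Γ(X, π ⁻¹ᵁ (U : Y.Opens))) (M := Γ(F, π ⁻¹ᵁ (U : Y.Opens)))
    exact this
  constructor
  · intro hF
    exact isRelFP_of_forall fun U V h =>
      (key U V h (π.preimage_mono h)).mpr (secRelFP_of_isRelFP hF (IsAffineOpen.preimage U.2 π) V.2 _)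
  · rintro ⟨𝒱, h𝒱, H⟩
    refine ⟨𝒱, h𝒱, fun V hV => ?_⟩
    obtain ⟨𝒰, h𝒰, H'⟩ := H V hV
    refine ⟨(fun U : Y.affineOpens => (⟨π ⁻¹ᵁ (U : Y.Opens), IsAffineOpen.preimage U.2 π⟩ : X.affineOpens)) '' 𝒰, ?_, ?_⟩
    · rw [Scheme.Hom.comp_preimage, ← h𝒰, iSup_image]
      refine le_antisymm (iSup₂_le fun U hU => π.preimage_mono (le_iSup₂_of_le U hU le_rfl))
        fun x hx => ?_
      obtain ⟨U, hU⟩ := Opens.mem_iSup.mp (show π x ∈ _ from hx)
      obtain ⟨hU, hxU⟩ := Opens.mem_iSup.mp hU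
      exact Opens.mem_iSup.mpr ⟨U, Opens.mem_iSup.mpr ⟨hU, hxU⟩⟩
    · rintro _ ⟨U, hU, rfl⟩ h
      have h1 : (U : Y.Opens) ≤ g ⁻¹ᵁ (V : S.Opens) := h𝒰 ▸ le_iSup₂_of_le U hU le_rfl
      exact (key U V h1 h).mp (H' U hU h1)

/-- A linear version of `pullSec` followed by restriction; it is a base change. -/
theorem exists_pullback_isBaseChange (f : X ⟶ Y) (G : Y.Modules) [Coh.IsQCoh G]
    {U : X.Opens} {W : Y.Opens} (hU : IsAffineOpen U) (hW : IsAffineOpen W) (e : U ≤ f ⁻¹ᵁ W) :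
    letI := (f.appLE W U e).hom.toAlgebra
    letI : Module Γ(Y, W) Γ((Scheme.Modules.pullback f).obj G, U) :=
      Module.compHom _ (f.appLE W U e).hom
    haveI : IsScalarTower Γ(Y, W) Γ(X, U) Γ((Scheme.Modules.pullback f).obj G, U) :=
      .of_algebraMap_smul fun _ _ => rfl
    ∃ l : Γ(G, W) →ₗ[Γ(Y, W)] Γ((Scheme.Modules.pullback f).obj G, U), IsBaseChange Γ(X, U) l := by
  letI := sectionsAlg f e
  letI : Module Γ(Y, W) Γ((Scheme.Modules.pullback f).obj G, U) :=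
    Module.compHom _ (f.appLE W U e).hom
  haveI : IsScalarTower Γ(Y, W) Γ(X, U) Γ((Scheme.Modules.pullback f).obj G, U) :=
    .of_algebraMap_smul fun _ _ => rfl
  refine ⟨((pullSecTensor f G e).restrictScalars Γ(Y, W)).comp (TensorProduct.mk _ _ _ 1), ?_⟩
  exact IsBaseChange.of_equiv
    (f := ((pullSecTensor f G e).restrictScalars Γ(Y, W)).comp (TensorProduct.mk _ _ _ 1))
    (pullSecEquiv f G e hW hU) fun m => rfl

/-- Inverse image by a morphism locally of finite presentation. -/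
theorem isRelFP_pullback (f : X ⟶ Y) (g : Y ⟶ S) [LocallyOfFinitePresentation f]
    [LocallyOfFiniteType g] (G : Y.Modules) [Coh.IsQCoh G] (hG : Flatn.IsRelFP g G) :
    Flatn.IsRelFP (f ≫ g) ((Scheme.Modules.pullback f).obj G) := by
  refine ⟨Set.univ, iSup_affineOpens S, fun V _ => ⟨_, iSup_affine_over f g V, ?_⟩⟩
  rintro U ⟨W, hW, hU⟩ h
  letI := (g.appLE V W hW).hom.toAlgebra
  letI := (f.appLE W U hU).hom.toAlgebra
  letI := ((f ≫ g).appLE V U h).hom.toAlgebra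
  haveI : IsScalarTower Γ(S, (V : S.Opens)) Γ(Y, (W : Y.Opens)) Γ(X, (U : X.Opens)) :=
    .of_algebraMap_eq' (by
      change _ = RingHom.comp (f.appLE W U hU).hom (g.appLE V W hW).hom
      rw [← CommRingCat.hom_comp, Scheme.Hom.appLE_comp_appLE]
      rfl)
  letI : Module Γ(Y, (W : Y.Opens)) Γ((Scheme.Modules.pullback f).obj G, (U : X.Opens)) :=
    Module.compHom _ (f.appLE W U hU).hom
  haveI : IsScalarTower Γ(Y, (W : Y.Opens)) Γ(X, (U : X.Opens))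
      Γ((Scheme.Modules.pullback f).obj G, (U : X.Opens)) := .of_algebraMap_smul fun _ _ => rfl
  haveI : Algebra.FinitePresentation Γ(Y, (W : Y.Opens)) Γ(X, (U : X.Opens)) :=
    f.finitePresentation_appLE W.2 U.2 hU
  obtain ⟨l, hl⟩ := exists_pullback_isBaseChange f G U.2 W.2 hU
  have := of_source_fp (M := Γ(G, (W : Y.Opens)))
    (M' := Γ((Scheme.Modules.pullback f).obj G, (U : X.Opens))) l hl
    (secRelFP_of_isRelFP hG W.2 V.2 hW)
  exact this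

/-- Base change. -/
theorem isRelFP_baseChange {X' S' : Scheme.{u}} (f : X ⟶ S) [LocallyOfFiniteType f]
    (F : X.Modules) [Coh.IsQCoh F] (g : S' ⟶ S) (f' : X' ⟶ S') (g' : X' ⟶ X)
    (hc : IsPullback g' f' f g) (hF : Flatn.IsRelFP f F) :
    Flatn.IsRelFP f' ((Scheme.Modules.pullback g').obj F) := by
  refine ⟨{V' | ∃ V : S.affineOpens, (V' : S'.Opens) ≤ g ⁻¹ᵁ (V : S.Opens)}, ?_, ?_⟩
  · rw [eq_top_iff]
    intro x _
    obtain ⟨_, ⟨V, hV, rfl⟩, hxV, -⟩ :=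
      S.isBasis_affineOpens.exists_subset_of_mem_open (Set.mem_univ (g x)) isOpen_univ
    obtain ⟨_, ⟨V', hV', rfl⟩, hxV', hle⟩ :=
      S'.isBasis_affineOpens.exists_subset_of_mem_open (a := x) hxV (g ⁻¹ᵁ V).isOpen
    exact Opens.mem_iSup.mpr ⟨⟨V', hV'⟩, Opens.mem_iSup.mpr ⟨⟨⟨V, hV⟩, hle⟩, hxV'⟩⟩
  rintro V' ⟨V, hVV⟩
  refine ⟨{U' | ∃ U : X.affineOpens, (U : X.Opens) ≤ f ⁻¹ᵁ (V : S.Opens) ∧
    (U' : X'.Opens) = g' ⁻¹ᵁ (U : X.Opens) ⊓ f' ⁻¹ᵁ (V' : S'.Opens)}, ?_, ?_⟩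
  · refine le_antisymm (iSup₂_le fun U' ⟨U, _, hU'⟩ => hU'.le.trans inf_le_right) fun x hx => ?_
    have hfx : g' x ∈ f ⁻¹ᵁ (V : S.Opens) := by
      have : g (f' x) ∈ (V : S.Opens) := hVV hx
      change f (g' x) ∈ (V : S.Opens)
      rwa [← Scheme.Hom.comp_apply, hc.w, Scheme.Hom.comp_apply]
    obtain ⟨_, ⟨U, hU, rfl⟩, hxU, hUV : U ≤ _⟩ :=
      X.isBasis_affineOpens.exists_subset_of_mem_open hfx (f ⁻¹ᵁ (V : S.Opens)).isOpen
    haveI : IsAffine _ := V.2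
    haveI : IsAffine _ := V'.2
    haveI : IsAffine _ := hU
    have haff : IsAffineOpen (g' ⁻¹ᵁ U ⊓ f' ⁻¹ᵁ (V' : S'.Opens)) :=
      .of_isIso (Scheme.Hom.isPullback_resLE hc hVV hUV rfl).isoPullback.hom
    exact Opens.mem_iSup.mpr ⟨⟨_, haff⟩, Opens.mem_iSup.mpr ⟨⟨⟨U, hU⟩, hUV, rfl⟩, ⟨hxU, hx⟩⟩⟩
  rintro U' ⟨U, hUV, hU'⟩ h
  have e : (U' : X'.Opens) ≤ g' ⁻¹ᵁ (U : X.Opens) := hU'.le.trans inf_le_left
  have hpo := (isIso_pushoutSection_iff hc hVV hUV hU').mp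
    (isIso_pushoutSection_of_isAffineOpen hc hVV hUV hU' V.2 V'.2 U.2)
  letI := (f.appLE V U hUV).hom.toAlgebra
  letI := (g.appLE V V' hVV).hom.toAlgebra
  letI := (g'.appLE U U' e).hom.toAlgebra
  letI := (f'.appLE V' U' h).hom.toAlgebra
  letI : Algebra Γ(S, (V : S.Opens)) Γ(X', (U' : X'.Opens)) :=
    ((g'.appLE U U' e).hom.comp (f.appLE V U hUV).hom).toAlgebra
  haveI : IsScalarTower Γ(S, (V : S.Opens)) Γ(X, (U : X.Opens)) Γ(X', (U' : X'.Opens)) :=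
    .of_algebraMap_eq' rfl
  haveI : IsScalarTower Γ(S, (V : S.Opens)) Γ(S', (V' : S'.Opens)) Γ(X', (U' : X'.Opens)) :=
    .of_algebraMap_eq' (congrArg CommRingCat.Hom.hom hpo.w)
  haveI : Algebra.IsPushout Γ(S, (V : S.Opens)) Γ(X, (U : X.Opens)) Γ(S', (V' : S'.Opens))
      Γ(X', (U' : X'.Opens)) := CommRingCat.isPushout_iff_isPushout.mp hpo
  letI : Module Γ(X, (U : X.Opens)) Γ((Scheme.Modules.pullback g').obj F, (U' : X'.Opens)) :=
    Module.compHom _ (g'.appLE U U' e).hom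
  haveI : IsScalarTower Γ(X, (U : X.Opens)) Γ(X', (U' : X'.Opens))
      Γ((Scheme.Modules.pullback g').obj F, (U' : X'.Opens)) := .of_algebraMap_smul fun _ _ => rfl
  obtain ⟨l, hl⟩ := exists_pullback_isBaseChange g' F U'.2 U.2 e
  have := of_baseChange (R' := Γ(S', (V' : S'.Opens))) (M := Γ(F, (U : X.Opens)))
    (M' := Γ((Scheme.Modules.pullback g').obj F, (U' : X'.Opens))) l hl
    (secRelFP_of_isRelFP hF U.2 V.2 hUV)
  exact this

/-- The map on sections, as a linear map. -/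
noncomputable def appₗ {M N : X.Modules} (φ : M ⟶ N) (U : X.Opens) :
    Γ(M, U) →ₗ[Γ(X, U)] Γ(N, U) where
  toFun x := φ.app U x
  map_add' := map_add _
  map_smul' r x := Scheme.Modules.Hom.app_smul φ r x

/-- Extensions. -/
theorem isRelFP_of_shortExact (f : X ⟶ S) [LocallyOfFiniteType f] (E : ShortComplex X.Modules)
    (hE : E.ShortExact) [Coh.IsQCoh E.X₁] [Coh.IsQCoh E.X₂] [Coh.IsQCoh E.X₃]
    (h₁ : Flatn.IsRelFP f E.X₁) (h₃ : Flatn.IsRelFP f E.X₃) : Flatn.IsRelFP f E.X₂ := by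
  haveI := hE.mono_f
  haveI := hE.epi_g
  refine isRelFP_of_forall fun U V h => ?_
  letI := (f.appLE V U h).hom.toAlgebra
  refine of_exact (appₗ E.f U) (appₗ E.g U) (app_injective_of_mono E.f _)
    (app_surjective_of_epi E.g U.2) (fun x => ⟨fun hx => ?_, ?_⟩)
    (secRelFP_of_isRelFP h₁ U.2 V.2 h) (secRelFP_of_isRelFP h₃ U.2 V.2 h)
  · exact exists_app_eq_of_mono_exact hE.exact _ x hx
  · rintro ⟨y, rfl⟩
    change E.g.app _ (E.f.app _ y) = 0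
    rw [← ConcreteCategory.comp_apply, ← Scheme.Modules.Hom.comp_app, E.zero]
    rfl

/-- Quotients by finite type submodules. -/
theorem isRelFP_of_shortExact_quotient (f : X ⟶ S) [LocallyOfFiniteType f]
    (E : ShortComplex X.Modules)
    (hE : E.ShortExact) [Coh.IsQCoh E.X₁] [Coh.IsQCoh E.X₂] [Coh.IsQCoh E.X₃]
    (h₁ : CohB1.IsFT E.X₁) (h₂ : Flatn.IsRelFP f E.X₂) : Flatn.IsRelFP f E.X₃ := by
  haveI := hE.mono_f
  haveI := hE.epi_g
  refine isRelFP_of_forall fun U V h => ?_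
  letI := (f.appLE V U h).hom.toAlgebra
  refine of_surjective (appₗ E.g U) (app_surjective_of_epi E.g U.2) ?_
    (secRelFP_of_isRelFP h₂ U.2 V.2 h)
  have : LinearMap.ker (appₗ E.g (U : X.Opens)) = LinearMap.range (appₗ E.f (U : X.Opens)) := by
    refine le_antisymm (fun x hx => exists_app_eq_of_mono_exact hE.exact _ x hx) ?_
    rintro _ ⟨y, rfl⟩
    change E.g.app _ (E.f.app _ y) = 0
    rw [← ConcreteCategory.comp_apply, ← Scheme.Modules.Hom.comp_app, E.zero]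
    rfl
  rw [this]
  haveI := finite_sections E.X₁ h₁ U.2
  exact Submodule.fg_range _

/-- Direct summands. -/
theorem isRelFP_of_retract (f : X ⟶ S) [LocallyOfFiniteType f] {F G : X.Modules}
    [Coh.IsQCoh G] (i : F ⟶ G) (p : G ⟶ F) (hip : i ≫ p = 𝟙 F) (h : Flatn.IsRelFP f G) :
    Flatn.IsRelFP f F := by
  refine isRelFP_of_forall fun U V hUV => ?_
  letI := (f.appLE V U hUV).hom.toAlgebra
  refine of_retract (appₗ i U) (appₗ p U) (LinearMap.ext fun x => ?_)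
    (secRelFP_of_isRelFP h U.2 V.2 hUV)
  change p.app _ (i.app _ x) = x
  rw [← ConcreteCategory.comp_apply, ← Scheme.Modules.Hom.comp_app, hip]
  rfl

end Groth.RelFP
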