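import Groth.Prelude.Def_FlatCA
import Mathlib.Algebra.Module.FinitePresentation
import Mathlib.RingTheory.LocalProperties.FinitePresentation
import Mathlib.RingTheory.Finiteness.ModuleFinitePresentation
import Mathlib.RingTheory.TensorProduct.MvPolynomial
import Mathlib.RingTheory.IntegralClosure.IsIntegralClosure.Basic
import Mathlib.RingTheory.FinitePresentation
import Mathlib.RingTheory.Localization.Away.Basic
import Mathlib.RingTheory.Localization.BaseChange
import Mathlib.LinearAlgebra.TensorProduct.RightExactness

/-!
Relative finite presentation of modules (`FlatCA.RelFinitePresentation`).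
-/

set_option autoImplicit false
set_option linter.style.haveILetI false

universe u

open TensorProduct

namespace Groth.RelFP

/-- `M` is finitely presented over `P` through `φ`. -/
def FPVia {P A : Type u} [CommRing P] [CommRing A] (φ : P →+* A) (M : Type u) [AddCommGroup M]
    [Module A M] : Prop :=
  @Module.FinitePresentation P M _ _ (Module.compHom M φ)

section via

variable {P Q A B : Type u} [CommRing P] [CommRing Q] [CommRing A] [CommRing B]
  {M N : Type u} [AddCommGroup M] [AddCommGroup N] [Module A M] [Module A N]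

theorem fpVia_iff [Algebra P A] [Module P M] [IsScalarTower P A M] :
    FPVia (algebraMap P A) M ↔ Module.FinitePresentation P M := by
  have : ‹Module P M› = Module.compHom M (algebraMap P A) :=
    Module.ext' _ _ fun r m => (IsScalarTower.algebraMap_smul A r m).symm
  rw [FPVia, ← this]

theorem fpVia_congr (e : M ≃ₗ[A] N) {φ : P →+* A} (h : FPVia φ M) : FPVia φ N := by
  letI := φ.toAlgebra
  letI : Module P M := Module.compHom M φ
  letI : Module P N := Module.compHom N φ
  haveI : IsScalarTower P A M := .of_algebraMap_smul fun _ _ => rfl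
  haveI : IsScalarTower P A N := .of_algebraMap_smul fun _ _ => rfl
  haveI : Module.FinitePresentation P M := h
  exact Module.FinitePresentation.of_equiv (e.restrictScalars P)

theorem fpVia_comp_of (r : Q →+* P) (hr : Function.Surjective r) (hk : (RingHom.ker r).FG)
    (φ : P →+* A) (h : FPVia φ M) : FPVia (φ.comp r) M := by
  letI := r.toAlgebra
  letI : Module P M := Module.compHom M φ
  letI : Module Q M := Module.compHom M (φ.comp r)
  haveI : IsScalarTower Q P M := .of_algebraMap_smul fun _ _ => rfl
  haveI : Module.FinitePresentation P M := h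
  haveI : Module.FinitePresentation Q P :=
    Module.finitePresentation_of_surjective (Algebra.linearMap Q P) hr hk
  exact Module.FinitePresentation.trans Q M P

theorem fpVia_of_comp (r : Q →+* P) (hr : Function.Surjective r)
    (φ : P →+* A) (h : FPVia (φ.comp r) M) : FPVia φ M := by
  letI := r.toAlgebra
  letI : Module P M := Module.compHom M φ
  letI : Module Q M := Module.compHom M (φ.comp r)
  haveI : IsScalarTower Q P M := .of_algebraMap_smul fun _ _ => rfl
  haveI : Module.FinitePresentation Q M := h
  change Module.FinitePresentation P M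
  obtain ⟨n, f, hf⟩ := Module.Finite.exists_fin' Q M
  let c : (Fin n → Q) →ₗ[Q] (Fin n → P) := (Algebra.linearMap Q P).compLeft (Fin n)
  let v : Fin n → M := fun i => f (Pi.single i 1)
  let l : (Fin n → P) →ₗ[P] M := Fintype.linearCombination P v
  have hc : Function.Surjective c := fun y =>
    ⟨fun i => Classical.choose (hr (y i)), funext fun i => Classical.choose_spec (hr (y i))⟩
  have hlc : (l.restrictScalars Q).comp c = f := by
    apply LinearMap.pi_ext
    intro i q
    have : c (Pi.single i q) = Pi.single i (algebraMap Q P q) := by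
      ext j
      rcases eq_or_ne j i with rfl | hj
      · simp [c]
      · simp [c, hj]
    rw [LinearMap.comp_apply, LinearMap.restrictScalars_apply, this]
    simp only [l, Fintype.linearCombination_apply_single, v]
    rw [algebraMap_smul, ← map_smul, ← Pi.single_smul, smul_eq_mul, mul_one]
  have hl : Function.Surjective l := by
    intro m
    obtain ⟨q, rfl⟩ := hf m
    exact ⟨c q, by rw [← hlc]; rfl⟩
  refine Module.finitePresentation_of_surjective l hl ?_
  obtain ⟨s, hs⟩ := Module.FinitePresentation.fg_ker f hf
  classical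
  refine ⟨s.image c, le_antisymm ?_ fun y hy => ?_⟩
  · rw [Submodule.span_le, Finset.coe_image]
    rintro _ ⟨x, hx, rfl⟩
    have : f x = 0 := (hs ▸ Submodule.subset_span hx : x ∈ LinearMap.ker f)
    rw [← hlc] at this
    exact this
  · obtain ⟨x, rfl⟩ := hc y
    have hx : x ∈ LinearMap.ker f := by rw [LinearMap.mem_ker, ← hlc]; exact hy
    rw [← hs] at hx
    have := Submodule.mem_map_of_mem (f := c) hx
    rw [Submodule.map_span] at this
    rw [Finset.coe_image]
    exact Submodule.span_le_restrictScalars Q P _ this

theorem fpVia_trans [Algebra P Q] [Module.FinitePresentation P Q] (φ : Q →+* A)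
    (h : FPVia φ M) : FPVia (φ.comp (algebraMap P Q)) M := by
  letI : Module Q M := Module.compHom M φ
  letI : Module P M := Module.compHom M (φ.comp (algebraMap P Q))
  haveI : IsScalarTower P Q M := .of_algebraMap_smul fun _ _ => rfl
  haveI : Module.FinitePresentation Q M := h
  exact Module.FinitePresentation.trans P M Q

/-- A module finitely presented over `P` is so over a module-finite `P`-algebra. -/
theorem fpVia_of_finite [Algebra P Q] [Module.Finite P Q] (φ : Q →+* A)
    (h : FPVia (φ.comp (algebraMap P Q)) M) : FPVia φ M := by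
  letI : Module Q M := Module.compHom M φ
  letI : Module P M := Module.compHom M (φ.comp (algebraMap P Q))
  haveI : IsScalarTower P Q M := .of_algebraMap_smul fun _ _ => rfl
  haveI : Module.FinitePresentation P M := h
  change Module.FinitePresentation Q M
  haveI : Module.Finite Q M := .of_restrictScalars_finite P Q M
  obtain ⟨n, f, hf⟩ := Module.Finite.exists_fin' Q M
  refine Module.finitePresentation_of_surjective f hf ?_
  have : (LinearMap.ker (f.restrictScalars P)).FG :=
    Module.FinitePresentation.fg_ker (f.restrictScalars P) hf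
  rw [LinearMap.ker_restrictScalars] at this
  exact Submodule.FG.of_restrictScalars (R := P) this

end via

section indep

variable {R A : Type u} [CommRing R] [CommRing A] [Algebra R A]
  {M : Type u} [AddCommGroup M] [Module A M]

theorem indep_mvPolynomial {ι κ : Type u} [Finite ι] [Finite κ]
    (α : MvPolynomial ι R →ₐ[R] A) (hα : Function.Surjective α)
    (β : MvPolynomial κ R →ₐ[R] A) (hβ : Function.Surjective β)
    (h : FPVia α.toRingHom M) : FPVia β.toRingHom M := by
  choose p hp using fun j => hα (β (MvPolynomial.X j))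
  choose q hq using fun i => hβ (α (MvPolynomial.X i))
  let r : MvPolynomial (ι ⊕ κ) R →ₐ[R] MvPolynomial ι R :=
    MvPolynomial.aeval (Sum.elim MvPolynomial.X p)
  let r' : MvPolynomial (ι ⊕ κ) R →ₐ[R] MvPolynomial κ R :=
    MvPolynomial.aeval (Sum.elim q MvPolynomial.X)
  have hr : Function.Surjective r := fun y =>
    ⟨MvPolynomial.rename Sum.inl y, by rw [MvPolynomial.aeval_rename, Sum.elim_comp_inl, MvPolynomial.aeval_X_left_apply]⟩
  have hr' : Function.Surjective r' := fun y =>
    ⟨MvPolynomial.rename Sum.inr y, by rw [MvPolynomial.aeval_rename, Sum.elim_comp_inr, MvPolynomial.aeval_X_left_apply]⟩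
  have he : α.comp r = β.comp r' := by
    apply MvPolynomial.algHom_ext
    rintro (i | j) <;> simp [r, r', hp, hq]
  have h1 := fpVia_comp_of r.toRingHom hr
    (Algebra.FinitePresentation.ker_fG_of_surjective r hr) α.toRingHom h
  refine fpVia_of_comp r'.toRingHom hr' β.toRingHom ?_
  have he' : α.toRingHom.comp r.toRingHom = β.toRingHom.comp r'.toRingHom :=
    congrArg AlgHom.toRingHom he
  rwa [← he']

theorem fpVia_of_mvPolynomial {P : Type u} [CommRing P] [Algebra R P]
    [Algebra.FinitePresentation R P] (α : P →ₐ[R] A) (hα : Function.Surjective α) :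
    ∃ (n : ℕ) (β : MvPolynomial (Fin n) R →ₐ[R] A), Function.Surjective β ∧
      (FPVia α.toRingHom M ↔ FPVia β.toRingHom M) := by
  obtain ⟨n, π, hπ, hk⟩ := Algebra.FinitePresentation.out (R := R) (A := P)
  refine ⟨n, α.comp π, hα.comp hπ, fun h => fpVia_comp_of π.toRingHom hπ hk α.toRingHom h,
    fun h => fpVia_of_comp π.toRingHom hπ α.toRingHom h⟩

theorem indep_fin {n m : ℕ} (α : MvPolynomial (Fin n) R →ₐ[R] A) (hα : Function.Surjective α)
    (β : MvPolynomial (Fin m) R →ₐ[R] A) (hβ : Function.Surjective β)
    (h : FPVia α.toRingHom M) : FPVia β.toRingHom M := by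
  let eα : MvPolynomial (ULift.{u} (Fin n)) R ≃ₐ[R] MvPolynomial (Fin n) R :=
    MvPolynomial.renameEquiv R Equiv.ulift
  let eβ : MvPolynomial (ULift.{u} (Fin m)) R ≃ₐ[R] MvPolynomial (Fin m) R :=
    MvPolynomial.renameEquiv R Equiv.ulift
  have h1 : FPVia (α.comp eα.toAlgHom).toRingHom M :=
    fpVia_comp_of eα.toAlgHom.toRingHom eα.surjective
      (Algebra.FinitePresentation.ker_fG_of_surjective eα.toAlgHom eα.surjective) α.toRingHom h
  exact fpVia_of_comp eβ.toAlgHom.toRingHom eβ.surjective β.toRingHom
    (indep_mvPolynomial _ (hα.comp eα.surjective) (β.comp eβ.toAlgHom) (hβ.comp eβ.surjective) h1)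

/-- Independence of the presentation, for any finitely presented algebra surjecting onto `A`. -/
theorem iff_fpVia {P : Type u} [CommRing P] [Algebra R P] [Algebra.FinitePresentation R P]
    (α : P →ₐ[R] A) (hα : Function.Surjective α) :
    FlatCA.RelFinitePresentation R A M ↔ FPVia α.toRingHom M := by
  obtain ⟨m, β, hβ, hiff⟩ := fpVia_of_mvPolynomial (M := M) α hα
  rw [hiff]
  refine ⟨fun ⟨n, γ, hγ, h⟩ => indep_fin γ hγ β hβ h, fun h => ⟨m, β, hβ, h⟩⟩

theorem of_linearEquiv {N : Type u} [AddCommGroup N] [Module A N] (e : M ≃ₗ[A] N)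
    (h : FlatCA.RelFinitePresentation R A M) : FlatCA.RelFinitePresentation R A N :=
  let ⟨n, α, hα, hM⟩ := h
  ⟨n, α, hα, fpVia_congr e hM⟩

/-- Quotient by a finitely generated submodule. -/
theorem of_surjective {N : Type u} [AddCommGroup N] [Module A N] (l : M →ₗ[A] N)
    (hl : Function.Surjective l) (hk : (LinearMap.ker l).FG)
    (h : FlatCA.RelFinitePresentation R A M) : FlatCA.RelFinitePresentation R A N := by
  obtain ⟨n, α, hα, hM⟩ := h
  refine ⟨n, α, hα, ?_⟩
  letI := α.toRingHom.toAlgebra
  letI : Module (MvPolynomial (Fin n) R) M := Module.compHom M α.toRingHom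
  letI : Module (MvPolynomial (Fin n) R) N := Module.compHom N α.toRingHom
  haveI : IsScalarTower (MvPolynomial (Fin n) R) A M := .of_algebraMap_smul fun _ _ => rfl
  haveI : IsScalarTower (MvPolynomial (Fin n) R) A N := .of_algebraMap_smul fun _ _ => rfl
  haveI : Module.FinitePresentation (MvPolynomial (Fin n) R) M := hM
  refine Module.finitePresentation_of_surjective (l.restrictScalars _) hl ?_
  rw [LinearMap.ker_restrictScalars]
  exact Submodule.FG.restrictScalars_of_surjective hk hα

/-- Extensions. -/
theorem of_exact {N L : Type u} [AddCommGroup N] [Module A N] [AddCommGroup L] [Module A L]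
    (i : M →ₗ[A] N) (l : N →ₗ[A] L) (hi : Function.Injective i) (hl : Function.Surjective l)
    (he : Function.Exact i l)
    (h1 : FlatCA.RelFinitePresentation R A M) (h3 : FlatCA.RelFinitePresentation R A L) :
    FlatCA.RelFinitePresentation R A N := by
  obtain ⟨n, α, hα, hL⟩ := h3
  refine ⟨n, α, hα, ?_⟩
  have hM := (iff_fpVia α hα).mp h1
  letI := α.toRingHom.toAlgebra
  letI : Module (MvPolynomial (Fin n) R) M := Module.compHom M α.toRingHom
  letI : Module (MvPolynomial (Fin n) R) N := Module.compHom N α.toRingHom
  letI : Module (MvPolynomial (Fin n) R) L := Module.compHom L α.toRingHom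
  haveI : IsScalarTower (MvPolynomial (Fin n) R) A M := .of_algebraMap_smul fun _ _ => rfl
  haveI : IsScalarTower (MvPolynomial (Fin n) R) A N := .of_algebraMap_smul fun _ _ => rfl
  haveI : IsScalarTower (MvPolynomial (Fin n) R) A L := .of_algebraMap_smul fun _ _ => rfl
  haveI : Module.FinitePresentation (MvPolynomial (Fin n) R) L := hL
  haveI : Module.FinitePresentation (MvPolynomial (Fin n) R) M := hM
  let i' := i.restrictScalars (MvPolynomial (Fin n) R)
  let l' := l.restrictScalars (MvPolynomial (Fin n) R)
  have hk : LinearMap.ker l' = LinearMap.range i' := LinearMap.exact_iff.mp he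
  haveI : Module.FinitePresentation (MvPolynomial (Fin n) R) (LinearMap.ker l') :=
    Module.FinitePresentation.of_equiv
      ((LinearEquiv.ofInjective i' hi).trans (LinearEquiv.ofEq _ _ hk.symm))
  exact Module.finitePresentation_of_ker l' hl

/-- Direct summands. -/
theorem of_retract {N : Type u} [AddCommGroup N] [Module A N] (i : M →ₗ[A] N) (p : N →ₗ[A] M)
    (hp : p.comp i = LinearMap.id) (h : FlatCA.RelFinitePresentation R A N) :
    FlatCA.RelFinitePresentation R A M := by
  obtain ⟨n, α, hα, hN⟩ := h
  refine ⟨n, α, hα, ?_⟩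
  letI := α.toRingHom.toAlgebra
  letI : Module (MvPolynomial (Fin n) R) M := Module.compHom M α.toRingHom
  letI : Module (MvPolynomial (Fin n) R) N := Module.compHom N α.toRingHom
  haveI : IsScalarTower (MvPolynomial (Fin n) R) A M := .of_algebraMap_smul fun _ _ => rfl
  haveI : IsScalarTower (MvPolynomial (Fin n) R) A N := .of_algebraMap_smul fun _ _ => rfl
  haveI : Module.FinitePresentation (MvPolynomial (Fin n) R) N := hN
  let i' := i.restrictScalars (MvPolynomial (Fin n) R)
  let p' := p.restrictScalars (MvPolynomial (Fin n) R)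
  have hpi : ∀ m, p' (i' m) = m := fun m => LinearMap.congr_fun hp m
  refine Module.finitePresentation_of_surjective p' (fun m => ⟨i' m, hpi m⟩) ?_
  have : LinearMap.ker p' = LinearMap.range (LinearMap.id - i'.comp p') := by
    ext x
    constructor
    · intro hx
      exact ⟨x, by simp [LinearMap.mem_ker.mp hx]⟩
    · rintro ⟨y, rfl⟩
      simp [hpi]
  rw [this]
  exact Submodule.fg_range _

end indep

/-- Killing one monic relation for each variable gives a finite algebra. -/
theorem finite_quotient_monic {P : Type u} [CommRing P] {m : ℕ} (F : Fin m → Polynomial P)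
    (hF : ∀ j, (F j).Monic) :
    Module.Finite P (MvPolynomial (Fin m) P ⧸
      Ideal.span (Set.range fun j => Polynomial.aeval (R := P)
        (MvPolynomial.X j : MvPolynomial (Fin m) P) (F j))) := by
  let J : Ideal (MvPolynomial (Fin m) P) :=
    Ideal.span (Set.range fun j => Polynomial.aeval (MvPolynomial.X j) (F j))
  let mk := Ideal.Quotient.mkₐ P J
  have hgen : ∀ j, IsIntegral P (mk (MvPolynomial.X j)) := fun j => by
    refine ⟨F j, hF j, ?_⟩
    rw [← Polynomial.aeval_def, Polynomial.aeval_algHom_apply]
    exact Ideal.Quotient.eq_zero_iff_mem.mpr (Ideal.subset_span ⟨j, rfl⟩)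
  have htop : Algebra.adjoin P (Set.range fun j => mk (MvPolynomial.X j)) = ⊤ := by
    rw [Set.range_comp' mk, ← AlgHom.map_adjoin, MvPolynomial.adjoin_range_X, Algebra.map_top,
      (AlgHom.range_eq_top mk).mpr (Ideal.Quotient.mkₐ_surjective P J)]
  refine ⟨?_⟩
  rw [← Algebra.top_toSubmodule, ← htop]
  exact fg_adjoin_of_finite (Set.finite_range _) (by rintro _ ⟨j, rfl⟩; exact hgen j)

section towers

variable {R A B : Type u} [CommRing R] [CommRing A] [CommRing B] [Algebra R A] [Algebra A B]
  [Algebra R B] [IsScalarTower R A B] {M : Type u} [AddCommGroup M] [Module B M]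

/-- From `A` down to `R` when `R → A` is of finite presentation. -/
theorem of_base_fp [Algebra.FinitePresentation R A] (h : FlatCA.RelFinitePresentation A B M) :
    FlatCA.RelFinitePresentation R B M := by
  obtain ⟨n, α, hα, hM⟩ := h
  haveI : Algebra.FinitePresentation R (MvPolynomial (Fin n) A) := .trans R A _
  exact (iff_fpVia (α.restrictScalars R) hα).mpr hM

/-- From `R` up to `A` when `R → A` is of finite type. -/
theorem of_base_ft [Algebra.FiniteType R A] (h : FlatCA.RelFinitePresentation R B M) :
    FlatCA.RelFinitePresentation A B M := by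
  obtain ⟨n, α, hα, hM⟩ := id h
  obtain ⟨m, π, hπ⟩ := Algebra.FiniteType.iff_quotient_mvPolynomial''.mp ‹Algebra.FiniteType R A›
  let β : MvPolynomial (Fin n) A →ₐ[A] B := MvPolynomial.aeval fun i => α (MvPolynomial.X i)
  have hβ : Function.Surjective β := fun b => by
    obtain ⟨p, rfl⟩ := hα b
    refine ⟨MvPolynomial.map (algebraMap R A) p, ?_⟩
    rw [MvPolynomial.aeval_map_algebraMap]
    exact (AlgHom.congr_fun (MvPolynomial.aeval_unique α) p).symm
  refine ⟨n, β, hβ, ?_⟩
  let γ : MvPolynomial (Fin m ⊕ Fin n) R →ₐ[R] MvPolynomial (Fin n) A :=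
    MvPolynomial.aeval (Sum.elim (fun j => MvPolynomial.C (π (MvPolynomial.X j))) MvPolynomial.X)
  have hγ : Function.Surjective γ := by
    rw [← AlgHom.range_eq_top, eq_top_iff]
    intro z hz
    clear hz
    induction z using MvPolynomial.induction_on with
    | C a =>
      obtain ⟨p, rfl⟩ := hπ a
      refine ⟨MvPolynomial.rename Sum.inl p, ?_⟩
      have : γ.comp (MvPolynomial.rename Sum.inl) =
          (IsScalarTower.toAlgHom R A (MvPolynomial (Fin n) A)).comp π := by
        apply MvPolynomial.algHom_ext
        intro j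
        simp [γ]
      exact AlgHom.congr_fun this p
    | add p q hp hq => exact add_mem hp hq
    | mul_X p i hp => exact mul_mem hp ⟨MvPolynomial.X (Sum.inr i), by simp [γ]⟩
  exact fpVia_of_comp γ.toRingHom hγ β.toRingHom
    ((iff_fpVia ((β.restrictScalars R).comp γ) (hβ.comp hγ)).mp h)

variable [Module A M] [IsScalarTower A B M]

/-- Finite morphisms do not change relative finite presentation. -/
theorem iff_of_finite [Algebra.FiniteType R A] [Module.Finite A B] :
    FlatCA.RelFinitePresentation R A M ↔ FlatCA.RelFinitePresentation R B M := by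
  obtain ⟨n, α, hα⟩ := Algebra.FiniteType.iff_quotient_mvPolynomial''.mp ‹Algebra.FiniteType R A›
  rw [iff_fpVia α hα]
  obtain ⟨m, b, hb⟩ := Module.Finite.exists_fin (R := A) (M := B)
  choose f hfm hf using fun j => (IsIntegral.of_finite A (b j))
  have hlift : ∀ j, ∃ F : Polynomial (MvPolynomial (Fin n) R),
      F.Monic ∧ F.map α.toRingHom = f j := fun j => by
    choose c hc using fun k => hα ((f j).coeff k)
    refine ⟨Polynomial.X ^ (f j).natDegree +
      ∑ k ∈ Finset.range (f j).natDegree, Polynomial.C (c k) * Polynomial.X ^ k, ?_, ?_⟩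
    · refine Polynomial.monic_X_pow_add ((Polynomial.degree_sum_le _ _).trans_lt
        ((Finset.sup_lt_iff (WithBot.bot_lt_coe _)).mpr fun k hk => ?_))
      exact (Polynomial.degree_C_mul_X_pow_le _ _).trans_lt (WithBot.coe_lt_coe.mpr (Finset.mem_range.mp hk))
    · conv_rhs => rw [(hfm j).as_sum]
      simp [Polynomial.map_sum, hc]
  choose F hFm hF using hlift
  let P := MvPolynomial (Fin n) R
  let J : Ideal (MvPolynomial (Fin m) P) :=
    Ideal.span (Set.range fun j => Polynomial.aeval (MvPolynomial.X j) (F j))
  let Q := MvPolynomial (Fin m) P ⧸ J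
  letI : Algebra P B := ((algebraMap A B).comp α.toRingHom).toAlgebra
  haveI : IsScalarTower R P B := .of_algebraMap_eq' (by
    rw [RingHom.algebraMap_toAlgebra, RingHom.comp_assoc]
    have : α.toRingHom.comp (algebraMap R P) = algebraMap R A := α.comp_algebraMap
    rw [this, ← IsScalarTower.algebraMap_eq])
  have hJ : ∀ a ∈ J, MvPolynomial.aeval b a = (0 : B) := by
    intro a ha
    refine (Ideal.span_le (I := RingHom.ker (MvPolynomial.aeval (R := P) b))).mpr ?_ ha
    rintro _ ⟨j, rfl⟩
    rw [SetLike.mem_coe, RingHom.mem_ker]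
    change MvPolynomial.aeval b (Polynomial.aeval (MvPolynomial.X j) (F j)) = 0
    rw [← Polynomial.aeval_algHom_apply, MvPolynomial.aeval_X, Polynomial.aeval_def,
      RingHom.algebraMap_toAlgebra, ← Polynomial.eval₂_map, hF]
    exact hf j
  let ψ : Q →ₐ[P] B := Ideal.Quotient.liftₐ J (MvPolynomial.aeval b) hJ
  haveI : Algebra.FinitePresentation P Q :=
    .quotient ⟨(Set.finite_range _).toFinset, by rw [Set.Finite.coe_toFinset]⟩
  haveI : Module.Finite P Q := finite_quotient_monic F hFm
  haveI : Algebra.FinitePresentation R Q := .trans R P Q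
  haveI : Module.FinitePresentation P Q := .of_finite_of_finitePresentation P Q
  have hψ : Function.Surjective (ψ.restrictScalars R) := fun z => by
    have hz : z ∈ Submodule.span A (Set.range b) := hb ▸ Submodule.mem_top
    induction hz using Submodule.span_induction with
    | mem x hx =>
      obtain ⟨j, rfl⟩ := hx
      exact ⟨Ideal.Quotient.mk J (MvPolynomial.X j), MvPolynomial.aeval_X b j⟩
    | zero => exact ⟨0, map_zero _⟩
    | add x y _ _ hx hy =>
      obtain ⟨x, rfl⟩ := hx
      obtain ⟨y, rfl⟩ := hy
      exact ⟨x + y, map_add _ _ _⟩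
    | smul a x _ hx =>
      obtain ⟨x, rfl⟩ := hx
      obtain ⟨a, rfl⟩ := hα a
      refine ⟨algebraMap P Q a * x, ?_⟩
      rw [map_mul, Algebra.smul_def]
      congr 1
      exact ψ.commutes a
  rw [iff_fpVia (R := R) (A := B) (P := Q) (ψ.restrictScalars R) hψ]
  have hcomp : FPVia α.toRingHom M ↔ FPVia (ψ.toRingHom.comp (algebraMap P Q)) M := by
    have : Module.compHom M α.toRingHom = Module.compHom M (ψ.toRingHom.comp (algebraMap P Q)) := by
      refine Module.ext' _ _ fun r m => ?_
      change α r • m = ψ (algebraMap P Q r) • m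
      rw [ψ.commutes]
      exact (IsScalarTower.algebraMap_smul B (α r) m).symm
    rw [FPVia, FPVia, this]
  rw [hcomp]
  exact ⟨fun h => fpVia_of_finite (P := P) (Q := Q) (ψ.restrictScalars R).toRingHom h,
    fun h => fpVia_trans (P := P) (Q := Q) (ψ.restrictScalars R).toRingHom h⟩

end towers

end Groth.RelFP
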